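import Cfsg.Agent.H517.PQR.Tools
import Cfsg.Agent.S1684
import Cfsg.Agent.S1686
import Cfsg.Agent.S1696
import Cfsg.Agent.S0280
import Cfsg.Agent.S0283
import Cfsg.Agent.S0292
import Cfsg.Agent.S0295

set_option autoImplicit false

/-!
# S3988 (helper517): the row of `Fi22`

`2.U6(2)` (S1684) for `3, 5, 7, 11` and `Ω7(3)` (S1686) for `13`.
-/

namespace Cfsg.Agent.H517.PQR

open Cfsg.Agent.H562.PQR

theorem card_psu {K : Type} [Field K] [Fintype K] (hK : Fintype.card K = 4) :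
    Nat.card (Cfsg.PSU 6 K 2) = 9196830720 := by
  have h := S0280.result (F := K) (q := 2) (by rw [hK]; norm_num) 6 (by norm_num)
  generalize Nat.card (Cfsg.PSU 6 K 2) = X at h ⊢
  simp only [Finset.prod_range_succ, Finset.prod_range_zero] at h
  norm_num [Nat.even_iff] at h
  omega

theorem card_omega : Nat.card (Cfsg.POmega (ZMod 3) (Cfsg.quadFormOdd 3 (ZMod 3))) = 4585351680 := by
  have h := S0292.result (F := ZMod 3) (q := 3) (by simp) (by decide) 3 (by norm_num)
  generalize Nat.card (Cfsg.POmega (ZMod 3) (Cfsg.quadFormOdd 3 (ZMod 3))) = X at h ⊢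
  simp only [Finset.prod_range_succ, Finset.prod_range_zero] at h
  norm_num at h
  omega

theorem fi22_primes {p : ℕ} (hp : p.Prime) (h : p ∣ 64561751654400) :
    p = 2 ∨ p = 3 ∨ p = 5 ∨ p = 7 ∨ p = 11 ∨ p = 13 := by
  rw [show 64561751654400 = 2 ^ 17 * 3 ^ 9 * 5 ^ 2 * 7 * 11 * 13 by norm_num, hp.dvd_mul, hp.dvd_mul, hp.dvd_mul,
    hp.dvd_mul, hp.dvd_mul] at h
  have key : ∀ {q : ℕ}, q.Prime → p ∣ q → p = q := fun hq h1 => (Nat.prime_dvd_prime_iff_eq hp hq).1 h1
  rcases h with ((((h | h) | h) | h) | h) | h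
  · exact Or.inl (key (by norm_num) (hp.dvd_of_dvd_pow h))
  · exact Or.inr (Or.inl (key (by norm_num) (hp.dvd_of_dvd_pow h)))
  · exact Or.inr (Or.inr (Or.inl (key (by norm_num) (hp.dvd_of_dvd_pow h))))
  · exact Or.inr (Or.inr (Or.inr (Or.inl (key (by norm_num) h))))
  · exact Or.inr (Or.inr (Or.inr (Or.inr (Or.inl (key (by norm_num) h)))))
  · exact Or.inr (Or.inr (Or.inr (Or.inr (Or.inr (key (by norm_num) h)))))

/-- **the row of `Fi22`** -/
theorem row_Fi22 : RowOdd Cfsg.Spor.Fi22 := by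
  have hcard := Cfsg.Agent.S1696.result.2
  have : Finite Cfsg.Spor.Fi22 := Nat.finite_of_card_ne_zero (by rw [hcard]; norm_num)
  intro p hp hp2 hd
  left
  rw [hcard] at hd
  have h1 : (p = 3 ∨ p = 5 ∨ p = 7 ∨ p = 11) → NotMin p Cfsg.Spor.Fi22 := by
    intro h
    obtain ⟨K, _, _, hK, hc⟩ := Cfsg.Agent.S1684.result
    have hcK := card_psu hK
    have : Finite (Cfsg.PSU 6 K 2) := inferInstance
    have : IsSimpleGroup (Cfsg.PSU 6 K 2) :=
      S0283.result (F := K) (q := 2) (by rw [hK]; norm_num) 6 (by norm_num) (by norm_num)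
    refine notMin_of_cover (by rw [hcK]; norm_num) hc hp ?_ (by rw [hcK, hcard]; norm_num)
    rw [hcK]
    rcases h with rfl | rfl | rfl | rfl <;> norm_num
  rcases fi22_primes hp hd with h | h | h | h | h | h
  · exact absurd h hp2
  · exact h1 (Or.inl h)
  · exact h1 (Or.inr (Or.inl h))
  · exact h1 (Or.inr (Or.inr (Or.inl h)))
  · exact h1 (Or.inr (Or.inr (Or.inr h)))
  · obtain ⟨e⟩ := Cfsg.Agent.S1686.result
    have : IsSimpleGroup (Cfsg.POmega (ZMod 3) (Cfsg.quadFormOdd 3 (ZMod 3))) :=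
      S0295.result (F := ZMod 3) (by simp; decide) 3 (by norm_num)
    have : Finite (Cfsg.POmega (ZMod 3) (Cfsg.quadFormOdd 3 (ZMod 3))) :=
      Nat.finite_of_card_ne_zero (by rw [card_omega]; norm_num)
    exact notMin_of_equiv (by rw [card_omega]; norm_num) e hp (by rw [card_omega, h]; norm_num)
      (by rw [card_omega, hcard]; norm_num)

end Cfsg.Agent.H517.PQR
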