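import Cfsg.Agent.H562.PQR.Iface
import Cfsg.Prelude.Def_SporadicB

set_option autoImplicit false

/-!
# S3988 (helper517): tools for the rows of `Fi22` and `Fi23`
-/

namespace Cfsg.Agent.H517.PQR

open Cfsg.Agent.H562.PQR

universe u v w

theorem exists_ncomm {T : Type w} [Group T] [Finite T] [IsSimpleGroup T] (h : ¬ (Nat.card T).Prime) :
    ∃ x y : T, x * y ≠ y * x := by
  by_contra hcon
  push Not at hcon
  apply h
  let _ : CommGroup T := { (inferInstance : Group T) with mul_comm := hcon }
  exact IsSimpleGroup.prime_card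

/-- a proper subgroup which is a double cover of a simple group -/
theorem notMin_of_cover {S : Type v} [Group S] [Finite S] {T : Type w} [Group T] [Finite T] [IsSimpleGroup T]
    (hT : ¬ (Nat.card T).Prime) {H : Subgroup S} (h : Cfsg.IsNonsplitDoubleCover H T) {p : ℕ} (hp : p.Prime)
    (hd : p ∣ Nat.card T) (hlt : 2 * Nat.card T < Nat.card S) : NotMin p S := by
  obtain ⟨h1, ⟨e⟩, -⟩ := h
  have hcard : Nat.card H = 2 * Nat.card T := by
    rw [← h1, ← Nat.card_congr e.toEquiv, mul_comm]
    exact Subgroup.card_eq_card_quotient_mul_card_subgroup _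
  refine NotMin.of_hom_lt (exists_ncomm hT) hp hd H.subtype
    (e.toMonoidHom.comp (QuotientGroup.mk' (Subgroup.center H)))
    (e.surjective.comp (QuotientGroup.mk'_surjective _)) ?_ (by rw [hcard]; exact hlt)
  intro x hx
  have h2 : x = 1 := Subtype.ext hx
  rw [h2]
  exact one_mem _

/-- a proper subgroup which is simple -/
theorem notMin_of_equiv {S : Type v} [Group S] [Finite S] {T : Type w} [Group T] [Finite T] [IsSimpleGroup T]
    (hT : ¬ (Nat.card T).Prime) {H : Subgroup S} (e : H ≃* T) {p : ℕ} (hp : p.Prime)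
    (hd : p ∣ Nat.card T) (hlt : Nat.card T < Nat.card S) : NotMin p S := by
  refine NotMin.of_hom_lt (exists_ncomm hT) hp hd H.subtype e.toMonoidHom e.surjective ?_
    (by rw [Nat.card_congr e.toEquiv]; exact hlt)
  intro x hx
  have h2 : x = 1 := Subtype.ext hx
  rw [h2]
  exact one_mem _

end Cfsg.Agent.H517.PQR
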